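import Groth.Agent.Lib.QCGen12.Finite
import Groth.Agent.Lib.Descend.SmoothEtale
import Groth.Agent.S7381
import Mathlib.AlgebraicGeometry.ZariskisMainTheorem

/-!
# Factorisation of quasi-finite morphisms through finite morphisms of finite presentation
-/

universe u

set_option backward.isDefEq.respectTransparency false
set_option backward.isDefEq.respectTransparency.types false
set_option backward.defeqAttrib.useBackward true
set_option linter.style.haveILetI false

open CategoryTheory CategoryTheory.Limits AlgebraicGeometry TopologicalSpace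

namespace Groth.Agent.ZMTFactor3

open Groth.Agent Groth.Agent.Descend

theorem exists_factor {X S : Scheme.{u}} (f : X ⟶ S) [CompactSpace S] [QuasiSeparatedSpace S]
    [IsSeparated f] [QuasiCompact f] [LocallyQuasiFinite f] [LocallyOfFinitePresentation f] :
    ∃ (T : Scheme.{u}) (j : X ⟶ T) (π : T ⟶ S), IsOpenImmersion j ∧ QuasiCompact j ∧ IsFinite π ∧
      LocallyOfFinitePresentation π ∧ j ≫ π = f := by
  haveI : CompactSpace X := QuasiCompact.compactSpace_of_compactSpace f
  -- a finite factorisation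
  let j₀ := f.toNormalization
  let e₀ : X ≅ j₀.opensRange.toScheme := j₀.isoOpensRange
  have he₀ : e₀.inv ≫ f = j₀.opensRange.ι ≫ f.fromNormalization := by
    rw [Iso.inv_comp_eq, ← Category.assoc, j₀.isoOpensRange_hom_ι, Scheme.Hom.toNormalization_fromNormalization]
  haveI : LocallyOfFiniteType (j₀.opensRange.ι ≫ f.fromNormalization) := by rw [← he₀]; infer_instance
  obtain ⟨T₁, j₁, ρ, hj₁, hρ, hj₁ρ⟩ := QCGen12.exists_finite_factor f.fromNormalization j₀.opensRange
    (by rw [Scheme.Hom.coe_opensRange]; exact isCompact_range j₀.continuous)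
  haveI := hj₁; haveI := hρ
  obtain ⟨I, _, _, _, D, c, hc, hD, hDmap, ⟨eT⟩⟩ := S7381.result ρ
  haveI : IsCofiltered Iᵒᵖ := by
    haveI : IsFiltered I := isFiltered_of_directed_le_nonempty _
    infer_instance
  haveI := IsCofiltered.isConnected Iᵒᵖ
  let D' := D ⋙ Over.forget S
  let c' : Cone D' := (Over.forget S).mapCone c
  have hc' : IsLimit c' := isLimitOfPreserves (Over.forget S) hc
  haveI hDci : ∀ {i k : Iᵒᵖ} (a : i ⟶ k), IsClosedImmersion (D'.map a) := fun a => hDmap _ _ a
  haveI : ∀ {i k : Iᵒᵖ} (a : i ⟶ k), IsAffineHom (D'.map a) := fun a => inferInstance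
  haveI : ∀ i, QuasiSeparatedSpace (D'.obj i) := fun i => by
    haveI := (hD i).1
    exact quasiSeparatedSpace_of_quasiSeparated (D.obj i).hom
  haveI : ∀ i, CompactSpace (D'.obj i) := fun i => by
    haveI := (hD i).1
    exact QuasiCompact.compactSpace_of_compactSpace (D.obj i).hom
  let jc : X ⟶ c'.pt := e₀.hom ≫ j₁ ≫ eT.inv.left
  haveI : IsOpenImmersion jc := by
    haveI : IsIso eT.inv.left := (inferInstanceAs (IsIso ((Over.forget S).map eT.inv)))
    exact (inferInstance : IsOpenImmersion (e₀.hom ≫ j₁ ≫ eT.inv.left))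
  have hjf : ∀ k, jc ≫ c'.π.app k ≫ (D.obj k).hom = f := fun k => by
    show (e₀.hom ≫ j₁ ≫ eT.inv.left) ≫ (c.π.app k).left ≫ (D.obj k).hom = f
    rw [Over.w, Category.assoc, Category.assoc]
    erw [Over.w eT.inv]
    show e₀.hom ≫ j₁ ≫ ρ = f
    rw [hj₁ρ, ← he₀, Iso.hom_inv_id_assoc]
  obtain ⟨i, V, hVc, hV⟩ := exists_preimage_eq D' c' hc' jc.opensRange
    (by rw [Scheme.Hom.coe_opensRange]; exact isCompact_range jc.continuous)
  haveI : CompactSpace V.toScheme := isCompact_iff_compactSpace.mp hVc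
  haveI : QuasiSeparatedSpace V.toScheme := quasiSeparatedSpace_of_quasiSeparated V.ι
  -- the system over stage `i` and its restriction to the open
  let cI : Cone (Over.forget i ⋙ D') := c'.whisker (Over.forget i)
  have hcI : IsLimit cI := (Functor.Initial.isLimitWhiskerEquiv (Over.forget i) c').symm hc'
  haveI : ∀ k, IsAffineHom ((overT D' i).app k) := fun k => inferInstanceAs (IsAffineHom (D'.map k.hom))
  have hqI : ∀ k, cI.π.app k ≫ (overT D' i).app k = c'.π.app i := fun k => c'.w k.hom
  have hrange : Set.range (jc ≫ c'.π.app i) ⊆ Set.range V.ι := by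
    rintro _ ⟨x, rfl⟩
    rw [Scheme.Opens.range_ι, Scheme.Hom.comp_apply]
    exact (SetLike.ext_iff.1 hV (jc x)).2 ⟨x, rfl⟩
  let p : X ⟶ V.toScheme := IsOpenImmersion.lift V.ι (jc ≫ c'.π.app i) hrange
  have hp : p ≫ V.ι = jc ≫ c'.π.app i := IsOpenImmersion.lift_fac _ _ hrange
  have hP : IsPullback p jc V.ι (c'.π.app i) :=
    (IsOpenImmersion.isPullback _ _ _ _ hp.symm (by
      rw [Scheme.Opens.opensRange_ι]; exact hV))
  -- the projection to the stage is a monomorphism
  haveI : Mono (c'.π.app i) := ⟨fun {Z} u v huv => hc'.hom_ext fun k => by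
    obtain ⟨l, a, b, -⟩ := IsCofilteredOrEmpty.cone_objs i k
    have h : u ≫ c'.π.app l = v ≫ c'.π.app l := by
      rw [← cancel_mono (D'.map a), Category.assoc, Category.assoc, c'.w]; exact huv
    rw [← c'.w b, ← Category.assoc, h, Category.assoc]⟩
  haveI : Mono p := hP.mono_fst_of_mono
  have hpf : p ≫ V.ι ≫ (D.obj i).hom = f := by rw [← Category.assoc, hp, Category.assoc]; exact hjf i
  haveI : IsFinite (D.obj i).hom := (hD i).1
  haveI : LocallyOfFinitePresentation (p ≫ V.ι ≫ (D.obj i).hom) := by rw [hpf]; infer_instance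
  haveI : QuasiCompact (p ≫ V.ι ≫ (D.obj i).hom) := by rw [hpf]; infer_instance
  haveI : LocallyOfFinitePresentation p :=
    SchBasic.locallyOfFinitePresentation_of_comp p (V.ι ≫ (D.obj i).hom)
  haveI : QuasiCompact p := QuasiCompact.of_comp p (V.ι ≫ (D.obj i).hom)
  let E := pbDiagram (Over.forget i ⋙ D') (overT D' i) V.ι
  let cE := pbCone (Over.forget i ⋙ D') (overT D' i) V.ι cI hqI hP
  have hcE : IsLimit cE := pbIsLimit (Over.forget i ⋙ D') (overT D' i) V.ι cI hqI hP hcI
  have hqE : ∀ k, cE.π.app k ≫ (pbFst (Over.forget i ⋙ D') (overT D' i) V.ι).app k = p := fun k =>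
    pbCone_fst (Over.forget i ⋙ D') (overT D' i) V.ι cI hqI hP k
  haveI hEmono : ∀ k, Mono ((pbFst (Over.forget i ⋙ D') (overT D' i) V.ι).app k) := fun k => by
    haveI : Mono ((overT D' i).app k) := inferInstanceAs (Mono (D'.map k.hom))
    show Mono (pullback.fst V.ι ((overT D' i).app k))
    infer_instance
  obtain ⟨k, e, he, hesnd⟩ := exists_stageIso (t := pbFst (Over.forget i ⋙ D') (overT D' i) V.ι)
    (c := cE) (q := p) (f := p) hcE (𝟙 V.toScheme) hqE
    (IsKernelPair.id_of_mono p) (IsPullback.of_vert_isIso ⟨by simp⟩ : IsPullback p (𝟙 X) (𝟙 V.toScheme) p)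
  let tk := (pbFst (Over.forget i ⋙ D') (overT D' i) V.ι).app k
  have hiso : IsIso (pullback.snd p tk) := by rw [← hesnd]; infer_instance
  let s : E.obj k ⟶ X := inv (pullback.snd p tk) ≫ pullback.fst p tk
  have hs : s ≫ p = tk := by
    simp only [s, Category.assoc, pullback.condition, IsIso.inv_hom_id_assoc]
  let r : X ⟶ E.obj k := cE.π.app k
  have hr : r ≫ tk = p := hqE k
  haveI : Mono tk := hEmono k
  haveI : IsIso r := ⟨s, by rw [← cancel_mono p, Category.assoc, hs, hr, Category.id_comp],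
    by rw [← cancel_mono tk, Category.assoc, hr, hs, Category.id_comp]⟩
  let u : E.obj k ⟶ D'.obj k.left := pullback.snd V.ι ((overT D' i).app k)
  have hru : r ≫ u = jc ≫ c'.π.app k.left :=
    pbCone_snd (Over.forget i ⋙ D') (overT D' i) V.ι cI hqI hP k
  haveI := (hD k.left).1
  haveI : IsOpenImmersion u := inferInstanceAs (IsOpenImmersion (pullback.snd V.ι ((overT D' i).app k)))
  refine ⟨D'.obj k.left, r ≫ u, (D.obj k.left).hom, inferInstance, ?_, (hD k.left).1, (hD k.left).2, ?_⟩
  · haveI : QuasiCompact ((r ≫ u) ≫ (D.obj k.left).hom) := by rw [hru, Category.assoc, hjf]; infer_instance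
    exact QuasiCompact.of_comp (r ≫ u) (D.obj k.left).hom
  · rw [hru, Category.assoc, hjf]

end Groth.Agent.ZMTFactor3
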